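import Mathlib
import Groth.Agent.ConormalSection.TestHom

/-!
# Sections of the pullback of a quasi-coherent module over affine opens

For affine opens `W` and `U ≤ π ⁻¹ W`: `Γ(π^* M, U) = Γ(X', U) ⊗[Γ(X, W)] Γ(M, W)`.
-/

set_option autoImplicit false
universe u
open CategoryTheory AlgebraicGeometry TopologicalSpace Opposite TensorProduct

namespace Groth.Agent.RelFPLib

variable {X X' : Scheme.{u}} (π : X' ⟶ X) (M : X.Modules)

theorem exists_pullTensorEquiv [M.IsQuasicoherent] {W : X.Opens} {U : X'.Opens} (hW : IsAffineOpen W)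
    (hU : IsAffineOpen U) (h : U ≤ π ⁻¹ᵁ W) :
    letI := (π.appLE W U h).hom.toAlgebra
    ∃ e : Γ(X', U) ⊗[Γ(X, W)] Γ(M, W) ≃ₗ[Γ(X', U)] Γ((Scheme.Modules.pullback π).obj M, U),
      ∀ a m, e (a ⊗ₜ m) = a • ConormalSection.pullRes π M h m := by
  letI : Algebra Γ(X, W) Γ(X', U) := (π.appLE W U h).hom.toAlgebra
  let P := (Scheme.Modules.pullback π).obj M
  letI : Module Γ(X, W) Γ(P, U) := Module.compHom _ (π.appLE W U h).hom
  haveI : IsScalarTower Γ(X, W) Γ(X', U) Γ(P, U) := IsScalarTower.of_algebraMap_smul fun _ _ => rfl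
  let p : Γ(M, W) →ₗ[Γ(X, W)] Γ(P, U) :=
    { toFun := ConormalSection.pullRes π M h
      map_add' := ConormalSection.pullRes_add π M h
      map_smul' := ConormalSection.pullRes_smul π M h }
  let l : Γ(X', U) ⊗[Γ(X, W)] Γ(M, W) →ₗ[Γ(X', U)] Γ(P, U) :=
    AlgebraTensorModule.lift
      (LinearMap.toSpanSingleton Γ(X', U) (Γ(M, W) →ₗ[Γ(X, W)] Γ(P, U)) p)
  have hl : ∀ a m, l (a ⊗ₜ m) = a • ConormalSection.pullRes π M h m := fun a m => rfl
  have hbij : Function.Bijective l := by
    constructor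
    · let T : ModuleCat.{u} Γ(X', U) := ModuleCat.of Γ(X', U) (Γ(X', U) ⊗[Γ(X, W)] Γ(M, W))
      let i : Γ(M, W) →+ T :=
        { toFun := fun m => (1 : Γ(X', U)) ⊗ₜ m
          map_zero' := tmul_zero _ _
          map_add' := fun _ _ => tmul_add _ _ _ }
      obtain ⟨N, ψ, r, hr, hsm, hadd, hψ⟩ := ConormalSection.exists_testHom π M hW hU h T i
        fun b m => by
          change (1 : Γ(X', U)) ⊗ₜ[Γ(X, W)] (b • m) = _
          rw [tmul_smul]
          exact (algebraMap_smul Γ(X', U) b _).symm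
      have key : ∀ z, ψ.app U (l z) = r z := by
        intro z
        induction z using TensorProduct.induction_on with
        | zero =>
          rw [map_zero, map_zero]
          have := hadd 0 0
          rw [add_zero] at this
          exact (left_eq_add.1 this).symm
        | tmul a m =>
          rw [hl, Scheme.Modules.Hom.app_smul, hψ, ← hsm]
          congr 1
          change a • ((1 : Γ(X', U)) ⊗ₜ[Γ(X, W)] m) = a ⊗ₜ[Γ(X, W)] m
          rw [TensorProduct.smul_tmul', smul_eq_mul, mul_one]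
        | add z w hz hw => rw [map_add, map_add, hz, hw, ← hadd]
      intro z w hzw
      exact hr (by rw [← key, ← key, hzw])
    · rw [← LinearMap.range_eq_top, eq_top_iff, ← ConormalSection.span_pullRes π M hW hU h,
        Submodule.span_le]
      rintro _ ⟨m, rfl⟩
      exact ⟨(1 : Γ(X', U)) ⊗ₜ m, by rw [hl, one_smul]⟩
  exact ⟨LinearEquiv.ofBijective l hbij, hl⟩

end Groth.Agent.RelFPLib
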