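import Mathlib
import Groth.Prelude.Def_FlatCA
import Groth.Agent.RelFP.Basic
import Groth.Agent.S7007

/-!
# Modules finitely presented relative to a base ring: change of base and of algebra
-/

universe u

namespace Groth.Agent.RelFPLib

open FlatCA TensorProduct Groth.Agent.RelFP

variable {R : Type u} [CommRing R] {A : Type u} [CommRing A] [Algebra R A]
variable {M : Type u} [AddCommGroup M] [Module A M]

/-- Finite presentation does not depend on equal module structures. -/
theorem fp_congr {S N : Type*} [CommRing S] [AddCommGroup N] (m₁ m₂ : Module S N)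
    (h : ∀ (s : S) (x : N), (letI := m₁; s • x) = (letI := m₂; s • x)) :
    @Module.FinitePresentation S N _ _ m₁ → @Module.FinitePresentation S N _ _ m₂ := by
  rw [show m₁ = m₂ from Module.ext' _ _ h]; exact id

theorem rfp_iff {S : Type u} [CommRing S] [Algebra R S] [Algebra.FinitePresentation R S]
    (ψ : S →ₐ[R] A) (hψ : Function.Surjective ψ) :
    RelFinitePresentation R A M ↔
      @Module.FinitePresentation S M _ _ (Module.compHom M ψ.toRingHom) := by
  refine ⟨fun ⟨n, φ, hφ, h⟩ => (fp_indep φ hφ ψ hψ).1 h, fun h => ?_⟩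
  obtain ⟨n, π, hπ, hk⟩ := ‹Algebra.FinitePresentation R S›.out
  exact ⟨n, ψ.comp π, hψ.comp hπ, (fp_comp_surjective π.toRingHom hπ hk ψ.toRingHom).2 h⟩

theorem rfp_finiteType (h : RelFinitePresentation R A M) : Algebra.FiniteType R A :=
  let ⟨_, φ, hφ, _⟩ := h
  Algebra.FiniteType.of_surjective φ hφ

theorem rfp_finitePresentation (h : RelFinitePresentation R A M) : Module.FinitePresentation A M := by
  obtain ⟨n, φ, hφ, h⟩ := h
  letI : Algebra (MvPolynomial (Fin n) R) A := φ.toRingHom.toAlgebra
  letI : Module (MvPolynomial (Fin n) R) M := Module.compHom M φ.toRingHom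
  haveI : IsScalarTower (MvPolynomial (Fin n) R) A M := IsScalarTower.of_algebraMap_smul fun _ _ => rfl
  haveI : Module.FinitePresentation (MvPolynomial (Fin n) R) M := h
  haveI : Module.Finite A M := Module.Finite.of_restrictScalars_finite (MvPolynomial (Fin n) R) A M
  obtain ⟨m, q, hq⟩ := Module.Finite.exists_fin' A M
  haveI : Module.Finite (MvPolynomial (Fin n) R) A :=
    Module.Finite.of_surjective (Algebra.linearMap _ A) hφ
  have hk : ((LinearMap.ker q).restrictScalars (MvPolynomial (Fin n) R)).FG := by
    have := Module.FinitePresentation.fg_ker (q.restrictScalars (MvPolynomial (Fin n) R)) hq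
    simpa [LinearMap.ker_restrictScalars] using this
  exact Module.finitePresentation_of_surjective q hq (Submodule.FG.of_restrictScalars _ hk)

theorem rfp_of_linearEquiv {N : Type u} [AddCommGroup N] [Module A N] (e : M ≃ₗ[A] N)
    (h : RelFinitePresentation R A M) : RelFinitePresentation R A N := by
  obtain ⟨n, φ, hφ, h⟩ := h
  refine ⟨n, φ, hφ, ?_⟩
  letI : Module (MvPolynomial (Fin n) R) M := Module.compHom M φ.toRingHom
  letI : Module (MvPolynomial (Fin n) R) N := Module.compHom N φ.toRingHom
  haveI : Module.FinitePresentation (MvPolynomial (Fin n) R) M := h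
  exact Module.FinitePresentation.of_equiv
    ({ e.toAddEquiv with map_smul' := fun p x => e.map_smul (φ p) x } :
      M ≃ₗ[MvPolynomial (Fin n) R] N)

/-- Changing the base ring along a finitely presented homomorphism. -/
theorem rfp_change_base (R' : Type u) [CommRing R'] [Algebra R R'] [Algebra R' A]
    [IsScalarTower R R' A] [Algebra.FinitePresentation R R'] [Algebra.FiniteType R' A] :
    RelFinitePresentation R A M ↔ RelFinitePresentation R' A M := by
  obtain ⟨n, φ, hφ⟩ := Algebra.FiniteType.iff_quotient_mvPolynomial''.1 ‹Algebra.FiniteType R' A›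
  haveI : Algebra.FinitePresentation R (MvPolynomial (Fin n) R') :=
    Algebra.FinitePresentation.trans R R' (MvPolynomial (Fin n) R')
  rw [rfp_iff (φ.restrictScalars R) hφ, rfp_iff φ hφ]
  rfl

/-- Base change along a cocartesian square of finitely presented algebras covering the
rings of the modules. -/
theorem fp_of_isPushout (P Q A A' M : Type u) [CommRing P] [CommRing Q] [CommRing A] [CommRing A']
    [Algebra P Q] [Algebra P A] [Algebra A A'] [Algebra Q A'] [Algebra P A']
    [IsScalarTower P Q A'] [IsScalarTower P A A'] [Algebra.IsPushout P Q A A']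
    [AddCommGroup M] [Module A M] [Module P M] [IsScalarTower P A M] [Module.FinitePresentation P M] :
    Module.FinitePresentation Q (A' ⊗[A] M) :=
  Module.FinitePresentation.of_equiv (Algebra.IsPushout.cancelBaseChange P Q A A' M).symm

theorem rfp_of_isPushout {R' : Type u} [CommRing R'] {P Q A' : Type u} [CommRing P] [CommRing Q]
    [CommRing A'] [Algebra R' Q] [Algebra.FinitePresentation R' Q]
    [Algebra P Q] [Algebra P A] [Algebra A A'] [Algebra Q A'] [Algebra P A'] [Algebra R' A']
    [IsScalarTower P Q A'] [IsScalarTower P A A'] [IsScalarTower R' Q A'] [Algebra.IsPushout P Q A A']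
    (hQ : Function.Surjective (algebraMap Q A')) [Module P M] [IsScalarTower P A M]
    [Module.FinitePresentation P M] : RelFinitePresentation R' A' (A' ⊗[A] M) := by
  rw [rfp_iff (IsScalarTower.toAlgHom R' Q A') hQ]
  refine fp_congr _ _ (fun q x => ?_) (fp_of_isPushout P Q A A' M)
  exact (algebraMap_smul A' q x).symm

/-- Base change along an arbitrary homomorphism of base rings. -/
theorem rfp_baseChange {R' A' : Type u} [CommRing R'] [CommRing A'] [Algebra R R'] [Algebra A A']
    [Algebra R' A'] [Algebra R A'] [IsScalarTower R A A'] [IsScalarTower R R' A']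
    [Algebra.IsPushout R A R' A'] (h : RelFinitePresentation R A M) :
    RelFinitePresentation R' A' (A' ⊗[A] M) := by
  obtain ⟨n, φ, hφ, h⟩ := h
  letI : Algebra (MvPolynomial (Fin n) R) A := φ.toRingHom.toAlgebra
  haveI : IsScalarTower R (MvPolynomial (Fin n) R) A :=
    IsScalarTower.of_algebraMap_eq fun r => (φ.commutes r).symm
  letI : Module (MvPolynomial (Fin n) R) M := Module.compHom M φ.toRingHom
  haveI : IsScalarTower (MvPolynomial (Fin n) R) A M := IsScalarTower.of_algebraMap_smul fun _ _ => rfl
  haveI : Module.FinitePresentation (MvPolynomial (Fin n) R) M := h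
  let g : MvPolynomial (Fin n) R' →ₐ[R'] A' :=
    MvPolynomial.aeval fun i => algebraMap A A' (φ (.X i))
  letI : Algebra (MvPolynomial (Fin n) R') A' := g.toRingHom.toAlgebra
  haveI : IsScalarTower R' (MvPolynomial (Fin n) R') A' :=
    IsScalarTower.of_algebraMap_eq fun r => (g.commutes r).symm
  letI : Algebra (MvPolynomial (Fin n) R) (MvPolynomial (Fin n) R') := MvPolynomial.algebraMvPolynomial
  letI : Algebra (MvPolynomial (Fin n) R) A' := ((algebraMap A A').comp φ.toRingHom).toAlgebra
  haveI : IsScalarTower (MvPolynomial (Fin n) R) A A' := IsScalarTower.of_algebraMap_eq fun _ => rfl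
  haveI : IsScalarTower R (MvPolynomial (Fin n) R) A' := IsScalarTower.of_algebraMap_eq fun r => by
    rw [IsScalarTower.algebraMap_apply R A A', IsScalarTower.algebraMap_apply R (MvPolynomial (Fin n) R) A]
    rfl
  haveI : IsScalarTower R (MvPolynomial (Fin n) R') A' := IsScalarTower.of_algebraMap_eq fun r => by
    rw [IsScalarTower.algebraMap_apply R R' (MvPolynomial (Fin n) R'),
      ← IsScalarTower.algebraMap_apply R' (MvPolynomial (Fin n) R') A',
      ← IsScalarTower.algebraMap_apply]
  have key : (algebraMap A A').comp φ.toRingHom =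
      g.toRingHom.comp (MvPolynomial.map (algebraMap R R')) := by
    refine MvPolynomial.ringHom_ext (fun r => ?_) (fun i => ?_)
    · simp [g, ← IsScalarTower.algebraMap_apply]
    · simp [g]
  haveI : IsScalarTower (MvPolynomial (Fin n) R) (MvPolynomial (Fin n) R') A' :=
    IsScalarTower.of_algebraMap_eq fun p => RingHom.congr_fun key p
  haveI : Algebra.IsPushout (MvPolynomial (Fin n) R) (MvPolynomial (Fin n) R') A A' := by
    haveI : Algebra.IsPushout R R' A A' := (Algebra.IsPushout.symm ‹Algebra.IsPushout R A R' A'›)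
    apply Algebra.IsPushout.symm
    rw [← Algebra.IsPushout.comp_iff R (MvPolynomial (Fin n) R) R' (MvPolynomial (Fin n) R')]
    infer_instance
  refine rfp_of_isPushout (P := MvPolynomial (Fin n) R) (Q := MvPolynomial (Fin n) R') ?_
  intro y
  induction y using (‹Algebra.IsPushout R A R' A'›.symm.out).inductionOn with
  | zero => exact ⟨0, map_zero _⟩
  | tmul a =>
    obtain ⟨p, rfl⟩ := hφ a
    exact ⟨algebraMap _ _ p, (RingHom.congr_fun key p).symm⟩
  | smul r y hy =>
    obtain ⟨q, rfl⟩ := hy
    exact ⟨r • q, by
      rw [Algebra.smul_def, map_mul, ← IsScalarTower.algebraMap_apply, Algebra.smul_def]⟩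
  | add y z hy hz =>
    obtain ⟨q, rfl⟩ := hy
    obtain ⟨q', rfl⟩ := hz
    exact ⟨q + q', map_add _ _ _⟩

/-- A quotient of the algebra by a finitely generated ideal. -/
theorem rfp_tensor_of_surjective {A' : Type u} [CommRing A'] [Algebra A A'] [Algebra R A']
    [IsScalarTower R A A'] (hs : Function.Surjective (algebraMap A A'))
    (hk : (RingHom.ker (algebraMap A A')).FG) (h : RelFinitePresentation R A M) :
    RelFinitePresentation R A' (A' ⊗[A] M) := by
  haveI := rfp_finitePresentation h
  obtain ⟨n, φ, hφ, h⟩ := h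
  refine ⟨n, (IsScalarTower.toAlgHom R A A').comp φ, hs.comp hφ, ?_⟩
  letI : Algebra (MvPolynomial (Fin n) R) A := φ.toRingHom.toAlgebra
  letI : Module (MvPolynomial (Fin n) R) M := Module.compHom M φ.toRingHom
  haveI : IsScalarTower (MvPolynomial (Fin n) R) A M := IsScalarTower.of_algebraMap_smul fun _ _ => rfl
  haveI : Module.FinitePresentation (MvPolynomial (Fin n) R) M := h
  haveI : Module.Finite (MvPolynomial (Fin n) R) A :=
    Module.Finite.of_surjective (Algebra.linearMap _ A) hφ
  letI mP : Module (MvPolynomial (Fin n) R) (A' ⊗[A] M) :=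
    Module.compHom (A' ⊗[A] M) ((IsScalarTower.toAlgHom R A A').comp φ).toRingHom
  let π : M →ₗ[MvPolynomial (Fin n) R] A' ⊗[A] M :=
    { toFun := fun m => (1 : A') ⊗ₜ[A] m
      map_add' := fun _ _ => tmul_add _ _ _
      map_smul' := fun p m => by
        change (1 : A') ⊗ₜ[A] (φ p • m) = algebraMap A A' (φ p) • ((1 : A') ⊗ₜ[A] m)
        rw [tmul_smul, algebraMap_smul] }
  have hπ : Function.Surjective π := (TensorProduct.mk_surjective A M A' hs)
  refine Module.finitePresentation_of_surjective π hπ ?_
  have hker : LinearMap.ker π =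
      ((RingHom.ker (algebraMap A A')) • (⊤ : Submodule A M)).restrictScalars
        (MvPolynomial (Fin n) R) := by
    ext m
    rw [LinearMap.mem_ker, Submodule.restrictScalars_mem]
    let I := RingHom.ker (algebraMap A A')
    let e : (A ⧸ I) ≃ₐ[A] A' := Ideal.quotientKerAlgEquivOfSurjective (f := Algebra.ofId A A') hs
    let E : A' ⊗[A] M ≃ₗ[A] M ⧸ I • (⊤ : Submodule A M) :=
      (TensorProduct.congr e.toLinearEquiv.symm (LinearEquiv.refl A M)).trans
        (TensorProduct.quotTensorEquivQuotSMul M I)
    change (1 : A') ⊗ₜ[A] m = 0 ↔ _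
    rw [← E.map_eq_zero_iff, ← Submodule.Quotient.mk_eq_zero]
    simp [E, ← Ideal.Quotient.mk_eq_mk, I]
  rw [hker]
  have hfg : ((RingHom.ker (algebraMap A A')) • (⊤ : Submodule A M)).FG :=
    Submodule.FG.smul hk (Module.finite_def.1 inferInstance)
  exact hfg.restrictScalars

/-- Base change along a finitely presented homomorphism of algebras. -/
theorem rfp_baseChange_algebra {A' : Type u} [CommRing A'] [Algebra A A'] [Algebra R A']
    [IsScalarTower R A A'] [Algebra.FinitePresentation A A'] (h : RelFinitePresentation R A M) :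
    RelFinitePresentation R A' (A' ⊗[A] M) := by
  obtain ⟨m, π, hπ, -⟩ := ‹Algebra.FinitePresentation A A'›.out
  letI : Algebra (MvPolynomial (Fin m) A) A' := π.toRingHom.toAlgebra
  haveI : IsScalarTower A (MvPolynomial (Fin m) A) A' :=
    IsScalarTower.of_algebraMap_eq fun r => (π.commutes r).symm
  haveI : IsScalarTower R (MvPolynomial (Fin m) A) A' := IsScalarTower.of_algebraMap_eq fun r => by
    rw [IsScalarTower.algebraMap_apply R A A', IsScalarTower.algebraMap_apply A (MvPolynomial (Fin m) A) A',
      ← IsScalarTower.algebraMap_apply R A (MvPolynomial (Fin m) A)]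
  have hk : (RingHom.ker (algebraMap (MvPolynomial (Fin m) A) A')).FG :=
    Algebra.FinitePresentation.ker_fG_of_surjective π hπ
  suffices hB : RelFinitePresentation R (MvPolynomial (Fin m) A) (MvPolynomial (Fin m) A ⊗[A] M) by
    exact rfp_of_linearEquiv (AlgebraTensorModule.cancelBaseChange A (MvPolynomial (Fin m) A) A' A' M)
      (rfp_tensor_of_surjective (A' := A') hπ hk hB)
  obtain ⟨n, φ, hφ, h⟩ := h
  letI : Algebra (MvPolynomial (Fin n) R) A := φ.toRingHom.toAlgebra
  haveI : IsScalarTower R (MvPolynomial (Fin n) R) A :=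
    IsScalarTower.of_algebraMap_eq fun r => (φ.commutes r).symm
  letI : Module (MvPolynomial (Fin n) R) M := Module.compHom M φ.toRingHom
  haveI : IsScalarTower (MvPolynomial (Fin n) R) A M := IsScalarTower.of_algebraMap_smul fun _ _ => rfl
  haveI : Module.FinitePresentation (MvPolynomial (Fin n) R) M := h
  letI : Algebra (MvPolynomial (Fin m) (MvPolynomial (Fin n) R)) (MvPolynomial (Fin m) A) :=
    MvPolynomial.algebraMvPolynomial
  haveI : Algebra.FinitePresentation R (MvPolynomial (Fin m) (MvPolynomial (Fin n) R)) :=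
    Algebra.FinitePresentation.trans R (MvPolynomial (Fin n) R) _
  haveI : IsScalarTower R (MvPolynomial (Fin m) (MvPolynomial (Fin n) R)) (MvPolynomial (Fin m) A) :=
    IsScalarTower.of_algebraMap_eq fun r => by
      change _ = MvPolynomial.map (algebraMap (MvPolynomial (Fin n) R) A) _
      rw [MvPolynomial.algebraMap_apply, MvPolynomial.algebraMap_apply, MvPolynomial.map_C,
        ← IsScalarTower.algebraMap_apply]
  refine rfp_of_isPushout (P := MvPolynomial (Fin n) R)
    (Q := MvPolynomial (Fin m) (MvPolynomial (Fin n) R)) ?_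
  exact MvPolynomial.map_surjective _ hφ

/-- Localisation of the algebra at one element. -/
theorem rfp_localization {A' : Type u} [CommRing A'] [Algebra A A'] [Algebra R A']
    [IsScalarTower R A A'] (g : A) [IsLocalization.Away g A'] {M' : Type u} [AddCommGroup M']
    [Module A M'] [Module A' M'] [IsScalarTower A A' M'] (f : M →ₗ[A] M')
    [IsLocalizedModule.Away g f] (h : RelFinitePresentation R A M) :
    RelFinitePresentation R A' M' := by
  haveI : Algebra.FinitePresentation A A' := IsLocalization.Away.finitePresentation g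
  exact rfp_of_linearEquiv (IsLocalizedModule.isBaseChange (Submonoid.powers g) A' f).equiv
    (rfp_baseChange_algebra h)

/-- Being relatively finitely presented can be checked on localisations spanning the unit ideal. -/
theorem rfp_of_localizationSpan [Algebra.FiniteType R A] (s : Set A) (hs : Ideal.span s = ⊤)
    {Ap : s → Type u} [∀ g, CommRing (Ap g)] [∀ g, Algebra A (Ap g)] [∀ g, Algebra R (Ap g)]
    [∀ g, IsScalarTower R A (Ap g)] [∀ g : s, IsLocalization.Away g.1 (Ap g)]
    {Mp : s → Type u} [∀ g, AddCommGroup (Mp g)] [∀ g, Module A (Mp g)] [∀ g, Module (Ap g) (Mp g)]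
    [∀ g, IsScalarTower A (Ap g) (Mp g)] (f : ∀ g, M →ₗ[A] Mp g)
    [∀ g : s, IsLocalizedModule.Away g.1 (f g)]
    (H : ∀ g, RelFinitePresentation R (Ap g) (Mp g)) : RelFinitePresentation R A M := by
  obtain ⟨n, α, hα⟩ := Algebra.FiniteType.iff_quotient_mvPolynomial''.1 ‹Algebra.FiniteType R A›
  obtain ⟨t, hts, ht⟩ := (Ideal.span_eq_top_iff_finite s).1 hs
  let e := t.equivFin
  let q : Fin t.card → s := fun i => ⟨(e.symm i : A), hts (e.symm i).2⟩
  have hq : Ideal.span (Set.range fun i => (q i : A)) = ⊤ := by
    rw [show (Set.range fun i => (q i : A)) = (t : Set A) from ?_, ht]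
    ext a
    refine ⟨fun ⟨i, hi⟩ => hi ▸ (e.symm i).2, fun ha => ⟨e ⟨a, ha⟩, ?_⟩⟩
    simp [q]
  have key : ∀ g : s, RelFinitePresentation R (Localization.Away (g : A))
      (LocalizedModule (Submonoid.powers (g : A)) M) := fun g => by
    obtain ⟨m, φ, hφ, h⟩ := H g
    let E : Ap g ≃ₐ[A] Localization.Away (g : A) :=
      IsLocalization.algEquiv (Submonoid.powers (g : A)) _ _
    refine ⟨m, (E.restrictScalars R).toAlgHom.comp φ, E.surjective.comp hφ, ?_⟩
    letI : Module (MvPolynomial (Fin m) R) (Mp g) := Module.compHom _ φ.toRingHom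
    letI : Module (MvPolynomial (Fin m) R) (LocalizedModule (Submonoid.powers (g : A)) M) :=
      Module.compHom _ ((E.restrictScalars R).toAlgHom.comp φ).toRingHom
    haveI : Module.FinitePresentation (MvPolynomial (Fin m) R) (Mp g) := h
    letI : Module (Ap g) (LocalizedModule (Submonoid.powers (g : A)) M) :=
      Module.compHom _ E.toRingEquiv.toRingHom
    haveI : IsScalarTower A (Ap g) (LocalizedModule (Submonoid.powers (g : A)) M) :=
      IsScalarTower.of_algebraMap_smul fun a x => by
        change E (algebraMap A (Ap g) a) • x = a • x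
        rw [E.commutes, algebraMap_smul]
    let l : Mp g ≃ₗ[Ap g] LocalizedModule (Submonoid.powers (g : A)) M :=
      (IsLocalizedModule.linearEquiv (Submonoid.powers (g : A)) (f g)
        (LocalizedModule.mkLinearMap _ M)).extendScalarsOfIsLocalization
          (Submonoid.powers (g : A)) (Ap g)
    exact Module.FinitePresentation.of_equiv
      ({ l.toAddEquiv with map_smul' := fun p x => l.map_smul (φ p) x } :
        Mp g ≃ₗ[MvPolynomial (Fin m) R] LocalizedModule (Submonoid.powers (g : A)) M)
  choose k γ hγ hk using fun i => key (q i)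
  exact ⟨n, α, hα, (Groth.Agent.S7007.result α hα M (fun i => (q i : A)) hq k γ hγ).2 hk⟩

end Groth.Agent.RelFPLib
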