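import Mathlib
import Groth.Prelude.Def_Flatn
import Groth.Agent.RelFPLib.Alg
import Groth.Agent.QCohLib.FiniteType

/-!
# Relatively finitely presented modules on schemes: independence of the covers
-/

universe u

open CategoryTheory AlgebraicGeometry TopologicalSpace Opposite FlatCA

set_option backward.isDefEq.respectTransparency false

namespace Groth.Agent.RelFPLib

variable {X S : Scheme.{u}} {f : X ⟶ S} {F : X.Modules}

theorem appLE_finiteType [LocallyOfFiniteType f] (U : X.affineOpens) (V : S.affineOpens)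
    (h : (U : X.Opens) ≤ f ⁻¹ᵁ (V : S.Opens)) : (f.appLE V U h).hom.FiniteType :=
  f.finiteType_appLE V.2 U.2 h

theorem relFPOn_congr {U U' : X.affineOpens} {V V' : S.affineOpens} (hU : U = U') (hV : V = V')
    {h : (U : X.Opens) ≤ f ⁻¹ᵁ (V : S.Opens)} {h' : (U' : X.Opens) ≤ f ⁻¹ᵁ (V' : S.Opens)} :
    Flatn.RelFPOn f F U V h ↔ Flatn.RelFPOn f F U' V' h' := by
  subst hU hV; rfl

/-- Restriction to a basic open of the source. -/
theorem relFPOn_basicOpen [F.IsQuasicoherent] (U : X.affineOpens) (V : S.affineOpens)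
    (h : (U : X.Opens) ≤ f ⁻¹ᵁ (V : S.Opens)) (g : Γ(X, (U : X.Opens)))
    (hP : Flatn.RelFPOn f F U V h) :
    Flatn.RelFPOn f F (X.affineBasicOpen g) V ((X.basicOpen_le g).trans h) := by
  letI := (f.appLE (V : S.Opens) (U : X.Opens) h).hom.toAlgebra
  letI : Algebra Γ(S, (V : S.Opens)) Γ(X, X.basicOpen g) :=
    (f.appLE (V : S.Opens) (X.basicOpen g) ((X.basicOpen_le g).trans h)).hom.toAlgebra
  haveI : IsScalarTower Γ(S, (V : S.Opens)) Γ(X, (U : X.Opens)) Γ(X, X.basicOpen g) :=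
    IsScalarTower.of_algebraMap_eq' <| by
      rw [RingHom.algebraMap_toAlgebra, RingHom.algebraMap_toAlgebra, RingHom.algebraMap_toAlgebra,
        ← CommRingCat.hom_comp, Scheme.Hom.appLE_map]
  haveI := U.2.isLocalization_basicOpen g
  letI := QCohLib.resModule F (X.basicOpen_le g)
  haveI := QCohLib.resModule_tower F (f := g)
  haveI := QCohLib.isLocalizedModule_res F U.2 g
  exact rfp_localization (A' := Γ(X, X.basicOpen g)) (M' := Γ(F, X.basicOpen g)) g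
    (QCohLib.resLinearMap F (X.basicOpen_le g)) hP

/-- Shrinking the base to a basic open. -/
theorem relFPOn_base_basicOpen_iff [LocallyOfFiniteType f] (U : X.affineOpens) (V : S.affineOpens)
    (a : Γ(S, (V : S.Opens))) (h' : (U : X.Opens) ≤ f ⁻¹ᵁ S.basicOpen a) :
    Flatn.RelFPOn f F U V
      (h'.trans ((Opens.map f.base).map (homOfLE (S.basicOpen_le a))).le) ↔
      Flatn.RelFPOn f F U (S.affineBasicOpen a) h' := by
  letI := (f.appLE (V : S.Opens) (U : X.Opens)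
    (h'.trans ((Opens.map f.base).map (homOfLE (S.basicOpen_le a))).le)).hom.toAlgebra
  letI : Algebra Γ(S, S.basicOpen a) Γ(X, (U : X.Opens)) :=
    (f.appLE (S.basicOpen a) (U : X.Opens) h').hom.toAlgebra
  haveI : IsScalarTower Γ(S, (V : S.Opens)) Γ(S, S.basicOpen a) Γ(X, (U : X.Opens)) :=
    IsScalarTower.of_algebraMap_eq' <| by
      rw [RingHom.algebraMap_toAlgebra, RingHom.algebraMap_toAlgebra, RingHom.algebraMap_toAlgebra,
        ← CommRingCat.hom_comp, Scheme.Hom.map_appLE]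
  haveI := V.2.isLocalization_basicOpen a
  haveI : Algebra.FinitePresentation Γ(S, (V : S.Opens)) Γ(S, S.basicOpen a) :=
    IsLocalization.Away.finitePresentation a
  haveI : Algebra.FiniteType Γ(S, S.basicOpen a) Γ(X, (U : X.Opens)) :=
    appLE_finiteType U (S.affineBasicOpen a) h'
  exact rfp_change_base Γ(S, S.basicOpen a)

/-- The property on `U` follows from the property on basic opens covering it. -/
theorem relFPOn_of_cover [LocallyOfFiniteType f] [F.IsQuasicoherent] (U : X.affineOpens)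
    (V : S.affineOpens) (h : (U : X.Opens) ≤ f ⁻¹ᵁ (V : S.Opens))
    (s : Set Γ(X, (U : X.Opens))) (hs : Ideal.span s = ⊤)
    (H : ∀ g ∈ s, Flatn.RelFPOn f F (X.affineBasicOpen g) V ((X.basicOpen_le g).trans h)) :
    Flatn.RelFPOn f F U V h := by
  letI := (f.appLE (V : S.Opens) (U : X.Opens) h).hom.toAlgebra
  haveI : Algebra.FiniteType Γ(S, (V : S.Opens)) Γ(X, (U : X.Opens)) := appLE_finiteType U V h
  letI (g : s) : Algebra Γ(S, (V : S.Opens)) Γ(X, X.basicOpen g.1) :=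
    (f.appLE (V : S.Opens) (X.basicOpen g.1) ((X.basicOpen_le g.1).trans h)).hom.toAlgebra
  haveI (g : s) : IsScalarTower Γ(S, (V : S.Opens)) Γ(X, (U : X.Opens)) Γ(X, X.basicOpen g.1) :=
    IsScalarTower.of_algebraMap_eq' <| by
      rw [RingHom.algebraMap_toAlgebra, RingHom.algebraMap_toAlgebra, RingHom.algebraMap_toAlgebra,
        ← CommRingCat.hom_comp, Scheme.Hom.appLE_map]
  haveI (g : s) := U.2.isLocalization_basicOpen g.1
  letI (g : s) := QCohLib.resModule F (X.basicOpen_le g.1)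
  haveI (g : s) := QCohLib.resModule_tower F (f := g.1)
  haveI (g : s) := QCohLib.isLocalizedModule_res F U.2 g.1
  exact rfp_of_localizationSpan s hs (Ap := fun g : s => Γ(X, X.basicOpen g.1))
    (fun g : s => QCohLib.resLinearMap F (X.basicOpen_le g.1)) fun g => H g.1 g.2

/-- The property at one pair around a point propagates to a basic open of any other pair. -/
theorem exists_basicOpen_relFPOn [LocallyOfFiniteType f] [F.IsQuasicoherent]
    (U₀ : X.affineOpens) (V₀ : S.affineOpens) (h₀ : (U₀ : X.Opens) ≤ f ⁻¹ᵁ (V₀ : S.Opens))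
    (U₁ : X.affineOpens) (V₁ : S.affineOpens) (h₁ : (U₁ : X.Opens) ≤ f ⁻¹ᵁ (V₁ : S.Opens))
    (hP : Flatn.RelFPOn f F U₁ V₁ h₁) (x : X) (hx₀ : x ∈ (U₀ : X.Opens)) (hx₁ : x ∈ (U₁ : X.Opens)) :
    ∃ g : Γ(X, (U₀ : X.Opens)), x ∈ X.basicOpen g ∧
      Flatn.RelFPOn f F (X.affineBasicOpen g) V₀ ((X.basicOpen_le g).trans h₀) := by
  obtain ⟨a, b, hab, hya⟩ := exists_basicOpen_le_affine_inter V₀.2 V₁.2 (f x) ⟨h₀ hx₀, h₁ hx₁⟩
  let U₁' : X.affineOpens := X.affineBasicOpen (f.appLE (V₁ : S.Opens) (U₁ : X.Opens) h₁ b)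
  have hU₁' : (U₁' : X.Opens) = (U₁ : X.Opens) ⊓ f ⁻¹ᵁ S.basicOpen b := by
    change X.basicOpen _ = _
    rw [Scheme.basicOpen_appLE]
  have hx' : x ∈ (U₁' : X.Opens) := by rw [hU₁']; exact ⟨hx₁, hab ▸ hya⟩
  have hle : (U₁' : X.Opens) ≤ f ⁻¹ᵁ S.basicOpen b := hU₁'.le.trans inf_le_right
  have p₁ : Flatn.RelFPOn f F U₁' (S.affineBasicOpen b) hle :=
    (relFPOn_base_basicOpen_iff U₁' V₁ b hle).1 (relFPOn_basicOpen U₁ V₁ h₁ _ hP)
  obtain ⟨g, g', hg, hxg⟩ := exists_basicOpen_le_affine_inter U₀.2 U₁'.2 x ⟨hx₀, hx'⟩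
  refine ⟨g, hxg, ?_⟩
  have p₂ := relFPOn_basicOpen U₁' (S.affineBasicOpen b) hle g' p₁
  have hleg : X.basicOpen g ≤ f ⁻¹ᵁ S.basicOpen a := by
    rw [hg, hab]; exact (X.basicOpen_le g').trans hle
  refine (relFPOn_base_basicOpen_iff (X.affineBasicOpen g) V₀ a hleg).2 ?_
  exact (relFPOn_congr (Subtype.ext hg.symm) (Subtype.ext hab.symm)).1 p₂

theorem exists_relFPOn_of_isRelFP (hF : Flatn.IsRelFP f F) (x : X) :
    ∃ (U : X.affineOpens) (V : S.affineOpens) (h : (U : X.Opens) ≤ f ⁻¹ᵁ (V : S.Opens)),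
      x ∈ (U : X.Opens) ∧ Flatn.RelFPOn f F U V h := by
  obtain ⟨𝒱, h𝒱, H⟩ := hF
  have hfx : f x ∈ ⨆ V ∈ 𝒱, (V : S.Opens) := h𝒱 ▸ trivial
  simp only [Opens.mem_iSup] at hfx
  obtain ⟨V, hV, hVx⟩ := hfx
  obtain ⟨𝒰, h𝒰, HU⟩ := H V hV
  have hx : x ∈ ⨆ U ∈ 𝒰, (U : X.Opens) := h𝒰 ▸ hVx
  simp only [Opens.mem_iSup] at hx
  obtain ⟨U, hU, hUx⟩ := hx
  have hUV : (U : X.Opens) ≤ f ⁻¹ᵁ (V : S.Opens) :=
    (le_iSup₂ (f := fun (U : X.affineOpens) (_ : U ∈ 𝒰) => (U : X.Opens)) U hU).trans h𝒰.le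
  exact ⟨U, V, hUV, hUx, HU U hU hUV⟩

/-- Relative finite presentation holds on every pair of affine opens. -/
theorem relFPOn_of_local [LocallyOfFiniteType f] [F.IsQuasicoherent]
    (U : X.affineOpens) (V : S.affineOpens) (h : (U : X.Opens) ≤ f ⁻¹ᵁ (V : S.Opens))
    (H : ∀ x ∈ (U : X.Opens), ∃ (U₁ : X.affineOpens) (V₁ : S.affineOpens)
      (h₁ : (U₁ : X.Opens) ≤ f ⁻¹ᵁ (V₁ : S.Opens)), x ∈ (U₁ : X.Opens) ∧ Flatn.RelFPOn f F U₁ V₁ h₁) :
    Flatn.RelFPOn f F U V h := by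
  refine relFPOn_of_cover U V h
    {g | Flatn.RelFPOn f F (X.affineBasicOpen g) V ((X.basicOpen_le g).trans h)} ?_ fun g hg => hg
  rw [← U.2.iSup_basicOpen_eq_self_iff]
  refine le_antisymm (iSup_le fun g => X.basicOpen_le _) fun x hx => ?_
  obtain ⟨U₁, V₁, h₁, hx₁, hP⟩ := H x hx
  obtain ⟨g, hxg, hg⟩ := exists_basicOpen_relFPOn U V h U₁ V₁ h₁ hP x hx hx₁
  exact Opens.mem_iSup.mpr ⟨⟨g, hg⟩, hxg⟩

theorem relFPOn_of_isRelFP [LocallyOfFiniteType f] [F.IsQuasicoherent] (hF : Flatn.IsRelFP f F)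
    (U : X.affineOpens) (V : S.affineOpens) (h : (U : X.Opens) ≤ f ⁻¹ᵁ (V : S.Opens)) :
    Flatn.RelFPOn f F U V h :=
  relFPOn_of_local U V h fun x _ => exists_relFPOn_of_isRelFP hF x

theorem isRelFP_of_forall
    (H : ∀ (U : X.affineOpens) (V : S.affineOpens) (h : (U : X.Opens) ≤ f ⁻¹ᵁ (V : S.Opens)),
      Flatn.RelFPOn f F U V h) : Flatn.IsRelFP f F := by
  refine ⟨Set.univ, ?_, fun V _ => ⟨{U | (U : X.Opens) ≤ f ⁻¹ᵁ (V : S.Opens)}, ?_,
    fun U _ h => H U V h⟩⟩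
  · refine eq_top_iff.2 fun s _ => ?_
    obtain ⟨W, hW, hsW, -⟩ := exists_isAffineOpen_mem_and_subset (x := s) (U := ⊤) trivial
    simp only [Opens.mem_iSup]
    exact ⟨⟨W, hW⟩, trivial, hsW⟩
  · refine le_antisymm (iSup₂_le fun U hU => hU) fun x hx => ?_
    obtain ⟨W, hW, hxW, hWV⟩ := exists_isAffineOpen_mem_and_subset (x := x) hx
    simp only [Opens.mem_iSup]
    exact ⟨⟨W, hW⟩, hWV, hxW⟩

theorem isRelFP_iff [LocallyOfFiniteType f] [F.IsQuasicoherent] :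
    Flatn.IsRelFP f F ↔
      ∀ (U : X.affineOpens) (V : S.affineOpens) (h : (U : X.Opens) ≤ f ⁻¹ᵁ (V : S.Opens)),
        Flatn.RelFPOn f F U V h :=
  ⟨relFPOn_of_isRelFP, isRelFP_of_forall⟩

/-- It suffices to test one pair around each point. -/
theorem isRelFP_of_local [LocallyOfFiniteType f] [F.IsQuasicoherent]
    (H : ∀ x : X, ∃ (U₁ : X.affineOpens) (V₁ : S.affineOpens)
      (h₁ : (U₁ : X.Opens) ≤ f ⁻¹ᵁ (V₁ : S.Opens)), x ∈ (U₁ : X.Opens) ∧ Flatn.RelFPOn f F U₁ V₁ h₁) :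
    Flatn.IsRelFP f F :=
  isRelFP_of_forall fun U V h => relFPOn_of_local U V h fun x _ => H x

end Groth.Agent.RelFPLib
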