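import Mathlib
import Groth.Agent.RelFPLib.Scheme
import Groth.Agent.QCohLib.Sections

/-!
# Relative finite presentation, exact sequences and composition
-/

universe u

open CategoryTheory AlgebraicGeometry TopologicalSpace Opposite FlatCA

set_option backward.isDefEq.respectTransparency false

namespace Groth.Agent.RelFPLib

section Ring

variable {R : Type u} [CommRing R] {A : Type u} [CommRing A] [Algebra R A]
variable {M N K : Type u} [AddCommGroup M] [Module A M] [AddCommGroup N] [Module A N]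
  [AddCommGroup K] [Module A K]

/-- Regard a linear map over `A` as linear over a ring mapping to `A`. -/
def restrictComp {P : Type*} [CommRing P] (φ : P →+* A) (l : M →ₗ[A] N) :
    letI := Module.compHom M φ
    letI := Module.compHom N φ
    M →ₗ[P] N :=
  letI := Module.compHom M φ
  letI := Module.compHom N φ
  { toFun := l, map_add' := map_add l, map_smul' := fun p x => l.map_smul (φ p) x }

theorem rfp_of_retract (i : N →ₗ[A] M) (p : M →ₗ[A] N) (hpi : p ∘ₗ i = LinearMap.id)
    (h : RelFinitePresentation R A M) : RelFinitePresentation R A N := by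
  obtain ⟨n, φ, hφ, h⟩ := h
  refine ⟨n, φ, hφ, ?_⟩
  letI : Module (MvPolynomial (Fin n) R) M := Module.compHom M φ.toRingHom
  letI : Module (MvPolynomial (Fin n) R) N := Module.compHom N φ.toRingHom
  haveI : Module.FinitePresentation (MvPolynomial (Fin n) R) M := h
  let i' := restrictComp φ.toRingHom i
  let p' := restrictComp φ.toRingHom p
  have hp : ∀ x, p (i x) = x := fun x => LinearMap.congr_fun hpi x
  refine Module.finitePresentation_of_surjective p' (fun x => ⟨i x, hp x⟩) ?_
  have : LinearMap.ker p' = LinearMap.range (LinearMap.id - i' ∘ₗ p') := by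
    ext x
    refine ⟨fun hx => ⟨x, ?_⟩, ?_⟩
    · change x - i (p x) = x
      rw [show p x = 0 from hx, map_zero, sub_zero]
    · rintro ⟨y, rfl⟩
      change p (y - i (p y)) = 0
      rw [map_sub, hp, sub_self]
  rw [this, LinearMap.range_eq_map]
  exact Submodule.FG.map _ (Module.finite_def.1 inferInstance)

theorem rfp_of_extension (f : K →ₗ[A] M) (g : M →ₗ[A] N) (hf : Function.Injective f)
    (hg : Function.Surjective g) (hfg : Function.Exact f g)
    (hK : RelFinitePresentation R A K) (hN : RelFinitePresentation R A N) :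
    RelFinitePresentation R A M := by
  obtain ⟨n, φ, hφ, hN⟩ := hN
  refine ⟨n, φ, hφ, ?_⟩
  letI : Module (MvPolynomial (Fin n) R) K := Module.compHom K φ.toRingHom
  letI : Module (MvPolynomial (Fin n) R) M := Module.compHom M φ.toRingHom
  letI : Module (MvPolynomial (Fin n) R) N := Module.compHom N φ.toRingHom
  haveI : Module.FinitePresentation (MvPolynomial (Fin n) R) N := hN
  haveI : Module.FinitePresentation (MvPolynomial (Fin n) R) K := (rfp_iff φ hφ).1 hK
  let f' := restrictComp φ.toRingHom f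
  let g' := restrictComp φ.toRingHom g
  haveI : Module.FinitePresentation (MvPolynomial (Fin n) R) (LinearMap.ker g') :=
    Module.FinitePresentation.of_equiv
      ((LinearEquiv.ofInjective f' hf).trans (LinearEquiv.ofEq (LinearMap.range f') (LinearMap.ker g')
        (Submodule.ext fun x => (hfg x).symm)))
  exact Module.finitePresentation_of_ker g' hg

theorem rfp_of_quotient (f : K →ₗ[A] M) (g : M →ₗ[A] N)
    (hg : Function.Surjective g) (hfg : Function.Exact f g)
    [Module.Finite A K] (hM : RelFinitePresentation R A M) :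
    RelFinitePresentation R A N := by
  obtain ⟨n, φ, hφ, hM⟩ := hM
  refine ⟨n, φ, hφ, ?_⟩
  letI : Module (MvPolynomial (Fin n) R) K := Module.compHom K φ.toRingHom
  letI : Module (MvPolynomial (Fin n) R) M := Module.compHom M φ.toRingHom
  letI : Module (MvPolynomial (Fin n) R) N := Module.compHom N φ.toRingHom
  letI : Algebra (MvPolynomial (Fin n) R) A := φ.toRingHom.toAlgebra
  haveI : IsScalarTower (MvPolynomial (Fin n) R) A K := IsScalarTower.of_algebraMap_smul fun _ _ => rfl
  haveI : Module.Finite (MvPolynomial (Fin n) R) A :=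
    Module.Finite.of_surjective (Algebra.linearMap _ A) hφ
  haveI : Module.Finite (MvPolynomial (Fin n) R) K := Module.Finite.trans A K
  haveI : Module.FinitePresentation (MvPolynomial (Fin n) R) M := hM
  let f' := restrictComp φ.toRingHom f
  let g' := restrictComp φ.toRingHom g
  refine Module.finitePresentation_of_surjective g' hg ?_
  rw [show LinearMap.ker g' = LinearMap.range f' from Submodule.ext fun x => hfg x,
    LinearMap.range_eq_map]
  exact Submodule.FG.map _ (Module.finite_def.1 inferInstance)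

end Ring

variable {X S : Scheme.{u}} {f : X ⟶ S}

/-- A morphism of modules on sections, as a linear map. -/
noncomputable def appLin {M N : X.Modules} (φ : M ⟶ N) (U : X.Opens) :
    Γ(M, U) →ₗ[Γ(X, U)] Γ(N, U) where
  toFun x := φ.app U x
  map_add' := map_add _
  map_smul' r x := Scheme.Modules.Hom.app_smul φ r x

theorem relFPOn_of_retract {F G : X.Modules} (i : G ⟶ F) (p : F ⟶ G) (hpi : i ≫ p = 𝟙 G)
    (U : X.affineOpens) (V : S.affineOpens) (h : (U : X.Opens) ≤ f ⁻¹ᵁ (V : S.Opens))
    (hF : Flatn.RelFPOn f F U V h) : Flatn.RelFPOn f G U V h := by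
  letI := (f.appLE (V : S.Opens) (U : X.Opens) h).hom.toAlgebra
  refine rfp_of_retract (M := Γ(F, (U : X.Opens))) (N := Γ(G, (U : X.Opens))) (appLin i U.1) (appLin p U.1) ?_ hF
  ext x
  change p.app U.1 (i.app U.1 x) = x
  rw [← ConcreteCategory.comp_apply, ← Scheme.Modules.Hom.comp_app, hpi]
  rfl

theorem relFPOn_of_extension (E : ShortComplex X.Modules) (hE : E.ShortExact)
    [E.X₁.IsQuasicoherent] (U : X.affineOpens) (V : S.affineOpens)
    (h : (U : X.Opens) ≤ f ⁻¹ᵁ (V : S.Opens))
    (h₁ : Flatn.RelFPOn f E.X₁ U V h) (h₃ : Flatn.RelFPOn f E.X₃ U V h) :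
    Flatn.RelFPOn f E.X₂ U V h := by
  letI := (f.appLE (V : S.Opens) (U : X.Opens) h).hom.toAlgebra
  refine rfp_of_extension (K := Γ(E.X₁, (U : X.Opens))) (M := Γ(E.X₂, (U : X.Opens)))
    (N := Γ(E.X₃, (U : X.Opens))) (appLin E.f U.1) (appLin E.g U.1)
    (QCohLib.sections_exact_of_shortExact hE U.1).1
    (QCohLib.app_surjective_of_shortExact hE U.2) ?_ h₁ h₃
  intro x
  refine ⟨(QCohLib.sections_exact_of_shortExact hE U.1).2 x, ?_⟩
  rintro ⟨c, rfl⟩
  change E.g.app U.1 (E.f.app U.1 c) = 0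
  rw [← ConcreteCategory.comp_apply, ← Scheme.Modules.Hom.comp_app, E.zero]
  rfl

theorem relFPOn_of_quotient (E : ShortComplex X.Modules) (hE : E.ShortExact)
    [E.X₁.IsQuasicoherent] (hX₁ : E.X₁.IsFiniteType) (U : X.affineOpens) (V : S.affineOpens)
    (h : (U : X.Opens) ≤ f ⁻¹ᵁ (V : S.Opens))
    (h₂ : Flatn.RelFPOn f E.X₂ U V h) : Flatn.RelFPOn f E.X₃ U V h := by
  letI := (f.appLE (V : S.Opens) (U : X.Opens) h).hom.toAlgebra
  haveI : Module.Finite Γ(X, (U : X.Opens)) Γ(E.X₁, (U : X.Opens)) :=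
    QCohLib.finite_sections _ hX₁ U.2
  refine rfp_of_quotient (K := Γ(E.X₁, (U : X.Opens))) (M := Γ(E.X₂, (U : X.Opens)))
    (N := Γ(E.X₃, (U : X.Opens))) (appLin E.f U.1) (appLin E.g U.1)
    (QCohLib.app_surjective_of_shortExact hE U.2) ?_ h₂
  intro x
  refine ⟨(QCohLib.sections_exact_of_shortExact hE U.1).2 x, ?_⟩
  rintro ⟨c, rfl⟩
  change E.g.app U.1 (E.f.app U.1 c) = 0
  rw [← ConcreteCategory.comp_apply, ← Scheme.Modules.Hom.comp_app, E.zero]
  rfl

theorem isRelFP_comp {Y : Scheme.{u}} (f : X ⟶ Y) (g : Y ⟶ S) [LocallyOfFiniteType f]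
    [LocallyOfFinitePresentation g] (F : X.Modules) [F.IsQuasicoherent] (hF : Flatn.IsRelFP f F) :
    Flatn.IsRelFP (f ≫ g) F := by
  refine isRelFP_of_local fun x => ?_
  obtain ⟨V, hV, hxV, -⟩ := exists_isAffineOpen_mem_and_subset (x := g (f x)) (U := ⊤) trivial
  obtain ⟨U, hU, hxU, hUV⟩ := exists_isAffineOpen_mem_and_subset (x := f x) (U := g ⁻¹ᵁ V) hxV
  obtain ⟨W, hW, hxW, hWU⟩ := exists_isAffineOpen_mem_and_subset (x := x) (U := f ⁻¹ᵁ U) hxU
  have hUV' : U ≤ g ⁻¹ᵁ V := hUV
  have hWU' : W ≤ f ⁻¹ᵁ U := hWU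
  refine ⟨⟨W, hW⟩, ⟨V, hV⟩, hWU'.trans ((Opens.map f.base).map (homOfLE hUV')).le, hxW, ?_⟩
  have hP := relFPOn_of_isRelFP hF ⟨W, hW⟩ ⟨U, hU⟩ hWU'
  letI := (f.appLE U W hWU').hom.toAlgebra
  letI : Algebra Γ(S, V) Γ(Y, U) := (g.appLE V U hUV').hom.toAlgebra
  letI : Algebra Γ(S, V) Γ(X, W) :=
    ((f ≫ g).appLE V W (hWU'.trans ((Opens.map f.base).map (homOfLE hUV')).le)).hom.toAlgebra
  haveI : IsScalarTower Γ(S, V) Γ(Y, U) Γ(X, W) := IsScalarTower.of_algebraMap_eq' <| by
    rw [RingHom.algebraMap_toAlgebra, RingHom.algebraMap_toAlgebra, RingHom.algebraMap_toAlgebra,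
      ← CommRingCat.hom_comp, Scheme.Hom.appLE_comp_appLE]
  haveI : Algebra.FinitePresentation Γ(S, V) Γ(Y, U) := g.finitePresentation_appLE hV hU hUV'
  haveI : Algebra.FiniteType Γ(Y, U) Γ(X, W) := f.finiteType_appLE hU hW hWU'
  exact (rfp_change_base Γ(Y, U)).2 hP

end Groth.Agent.RelFPLib
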