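import Mathlib
import Groth.Agent.RelFPLib.Exact
import Groth.Agent.RelFPLib.PullTensor
import Groth.Agent.QCohLib.Pullback
import Groth.Agent.QCohLib.Criterion
import Groth.Agent.S6992

/-!
# Relative finite presentation: pullback and finite direct image
-/

universe u

open CategoryTheory AlgebraicGeometry TopologicalSpace Opposite FlatCA TensorProduct

set_option backward.isDefEq.respectTransparency false

namespace Groth.Agent.RelFPLib

theorem isRelFP_baseChange {X S X' S' : Scheme.{u}} (f : X ⟶ S) [LocallyOfFiniteType f]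
    (F : X.Modules) [F.IsQuasicoherent] (g : S' ⟶ S) (f' : X' ⟶ S') (g' : X' ⟶ X)
    (hc : IsPullback g' f' f g) (hF : Flatn.IsRelFP f F) :
    Flatn.IsRelFP f' ((Scheme.Modules.pullback g').obj F) := by
  haveI : LocallyOfFiniteType f' :=
    MorphismProperty.of_isPullback (P := @LocallyOfFiniteType) hc inferInstance
  haveI := QCohLib.isQuasicoherent_pullback g' F
  refine isRelFP_of_local fun x => ?_
  obtain ⟨V, hV, hxV, -⟩ :=
    exists_isAffineOpen_mem_and_subset (x := g (f' x)) (U := ⊤) trivial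
  obtain ⟨V', hV', hxV', hVV⟩ := exists_isAffineOpen_mem_and_subset (x := f' x) (U := g ⁻¹ᵁ V) hxV
  have hVV' : V' ≤ g ⁻¹ᵁ V := hVV
  have hxV₀ : g' x ∈ f ⁻¹ᵁ V := by
    change f (g' x) ∈ V
    rwa [← Scheme.Hom.comp_apply, hc.w, Scheme.Hom.comp_apply]
  obtain ⟨U, hU, hxU, hUV⟩ := exists_isAffineOpen_mem_and_subset (x := g' x) hxV₀
  have hUV' : U ≤ f ⁻¹ᵁ V := hUV
  have hWaff : IsAffineOpen (g' ⁻¹ᵁ U ⊓ f' ⁻¹ᵁ V') := by
    haveI : IsAffine _ := hV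
    haveI : IsAffine _ := hV'
    haveI : IsAffine _ := hU
    exact .of_isIso (Scheme.Hom.isPullback_resLE hc hVV' hUV' rfl).isoPullback.hom
  refine ⟨⟨_, hWaff⟩, ⟨V', hV'⟩, inf_le_right, ⟨hxU, hxV'⟩, ?_⟩
  have hp := (isIso_pushoutSection_iff hc hVV' hUV' rfl).1
    (isIso_pushoutSection_of_isAffineOpen hc hVV' hUV' rfl hV hV' hU)
  have hP := relFPOn_of_isRelFP hF ⟨U, hU⟩ ⟨V, hV⟩ hUV'
  let W := g' ⁻¹ᵁ U ⊓ f' ⁻¹ᵁ V'
  letI : Algebra Γ(S, V) Γ(X, U) := (f.appLE V U hUV').hom.toAlgebra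
  letI : Algebra Γ(S, V) Γ(S', V') := (g.appLE V V' hVV').hom.toAlgebra
  letI : Algebra Γ(X, U) Γ(X', W) := (g'.appLE U W inf_le_left).hom.toAlgebra
  letI : Algebra Γ(S', V') Γ(X', W) := (f'.appLE V' W inf_le_right).hom.toAlgebra
  letI : Algebra Γ(S, V) Γ(X', W) :=
    ((g'.appLE U W inf_le_left).hom.comp (f.appLE V U hUV').hom).toAlgebra
  haveI : IsScalarTower Γ(S, V) Γ(X, U) Γ(X', W) := IsScalarTower.of_algebraMap_eq' rfl
  haveI : IsScalarTower Γ(S, V) Γ(S', V') Γ(X', W) :=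
    IsScalarTower.of_algebraMap_eq' (congrArg CommRingCat.Hom.hom hp.w)
  haveI : Algebra.IsPushout Γ(S, V) Γ(X, U) Γ(S', V') Γ(X', W) :=
    CommRingCat.isPushout_iff_isPushout.mp hp
  obtain ⟨e, -⟩ := exists_pullTensorEquiv g' F hU hWaff (inf_le_left : W ≤ g' ⁻¹ᵁ U)
  exact rfp_of_linearEquiv e (rfp_baseChange hP)

theorem isRelFP_pullback {X Y S : Scheme.{u}} (f : X ⟶ Y) (g : Y ⟶ S)
    [LocallyOfFinitePresentation f] [LocallyOfFiniteType g] (G : Y.Modules) [G.IsQuasicoherent]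
    (hG : Flatn.IsRelFP g G) : Flatn.IsRelFP (f ≫ g) ((Scheme.Modules.pullback f).obj G) := by
  haveI := QCohLib.isQuasicoherent_pullback f G
  refine isRelFP_of_local fun x => ?_
  obtain ⟨V, hV, hxV, -⟩ := exists_isAffineOpen_mem_and_subset (x := g (f x)) (U := ⊤) trivial
  obtain ⟨U, hU, hxU, hUV⟩ := exists_isAffineOpen_mem_and_subset (x := f x) (U := g ⁻¹ᵁ V) hxV
  obtain ⟨W, hW, hxW, hWU⟩ := exists_isAffineOpen_mem_and_subset (x := x) (U := f ⁻¹ᵁ U) hxU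
  have hUV' : U ≤ g ⁻¹ᵁ V := hUV
  have hWU' : W ≤ f ⁻¹ᵁ U := hWU
  refine ⟨⟨W, hW⟩, ⟨V, hV⟩, hWU'.trans ((Opens.map f.base).map (homOfLE hUV')).le, hxW, ?_⟩
  have hP := relFPOn_of_isRelFP hG ⟨U, hU⟩ ⟨V, hV⟩ hUV'
  letI : Algebra Γ(Y, U) Γ(X, W) := (f.appLE U W hWU').hom.toAlgebra
  letI : Algebra Γ(S, V) Γ(Y, U) := (g.appLE V U hUV').hom.toAlgebra
  letI : Algebra Γ(S, V) Γ(X, W) :=
    ((f ≫ g).appLE V W (hWU'.trans ((Opens.map f.base).map (homOfLE hUV')).le)).hom.toAlgebra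
  haveI : IsScalarTower Γ(S, V) Γ(Y, U) Γ(X, W) := IsScalarTower.of_algebraMap_eq' <| by
    rw [RingHom.algebraMap_toAlgebra, RingHom.algebraMap_toAlgebra, RingHom.algebraMap_toAlgebra,
      ← CommRingCat.hom_comp, Scheme.Hom.appLE_comp_appLE]
  haveI : Algebra.FinitePresentation Γ(Y, U) Γ(X, W) := f.finitePresentation_appLE hU hW hWU'
  obtain ⟨e, -⟩ := exists_pullTensorEquiv f G hU hW hWU'
  exact rfp_of_linearEquiv e (rfp_baseChange_algebra hP)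

theorem rfp_iff_of_finite {R A B : Type u} [CommRing R] [CommRing A] [CommRing B] [Algebra R A]
    [Algebra A B] [Algebra R B] [IsScalarTower R A B] [Algebra.FiniteType R A] [Module.Finite A B]
    (M : Type u) [AddCommGroup M] [Module B M] [Module A M] [IsScalarTower A B M] :
    RelFinitePresentation R A M ↔ RelFinitePresentation R B M := by
  haveI : Algebra.FiniteType R B := Algebra.FiniteType.trans (S := A) inferInstance inferInstance
  obtain ⟨n, α, hα⟩ := Algebra.FiniteType.iff_quotient_mvPolynomial''.1 ‹Algebra.FiniteType R A›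
  obtain ⟨k, β, hβ⟩ := Algebra.FiniteType.iff_quotient_mvPolynomial''.1 ‹Algebra.FiniteType R B›
  rw [rfp_iff α hα, rfp_iff β hβ]
  exact Groth.Agent.S6992.result M α hα β hβ

/-- Relative finite presentation on `π⁻¹ U` is that of the direct image on `U`. -/
theorem relFPOn_push_iff {X Y S : Scheme.{u}} (π : X ⟶ Y) [IsFinite π] (g : Y ⟶ S)
    [LocallyOfFiniteType g] (F : X.Modules) (U : Y.affineOpens) (V : S.affineOpens)
    (h : (U : Y.Opens) ≤ g ⁻¹ᵁ (V : S.Opens)) (hW : IsAffineOpen (π ⁻¹ᵁ (U : Y.Opens))) :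
    Flatn.RelFPOn g ((Scheme.Modules.pushforward π).obj F) U V h ↔
      Flatn.RelFPOn (π ≫ g) F ⟨π ⁻¹ᵁ (U : Y.Opens), hW⟩ V
        (((Opens.map π.base).map (homOfLE h)).le) := by
  letI : Algebra Γ(S, (V : S.Opens)) Γ(Y, (U : Y.Opens)) := (g.appLE _ _ h).hom.toAlgebra
  letI : Algebra Γ(Y, (U : Y.Opens)) Γ(X, π ⁻¹ᵁ (U : Y.Opens)) := (π.app U.1).hom.toAlgebra
  letI : Algebra Γ(S, (V : S.Opens)) Γ(X, π ⁻¹ᵁ (U : Y.Opens)) :=
    ((π ≫ g).appLE (V : S.Opens) (π ⁻¹ᵁ (U : Y.Opens))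
      (((Opens.map π.base).map (homOfLE h)).le)).hom.toAlgebra
  haveI : IsScalarTower Γ(S, (V : S.Opens)) Γ(Y, (U : Y.Opens)) Γ(X, π ⁻¹ᵁ (U : Y.Opens)) :=
    IsScalarTower.of_algebraMap_eq' <| by
      rw [RingHom.algebraMap_toAlgebra, RingHom.algebraMap_toAlgebra, RingHom.algebraMap_toAlgebra,
        ← CommRingCat.hom_comp, Scheme.Hom.app_eq_appLE, Scheme.Hom.appLE_comp_appLE]
  haveI : Module.Finite Γ(Y, (U : Y.Opens)) Γ(X, π ⁻¹ᵁ (U : Y.Opens)) := π.finite_app U.1 U.2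
  haveI : Algebra.FiniteType Γ(S, (V : S.Opens)) Γ(Y, (U : Y.Opens)) := appLE_finiteType U V h
  letI : Module Γ(Y, (U : Y.Opens)) Γ(F, π ⁻¹ᵁ (U : Y.Opens)) := Module.compHom _ (π.app U.1).hom
  haveI : IsScalarTower Γ(Y, (U : Y.Opens)) Γ(X, π ⁻¹ᵁ (U : Y.Opens)) Γ(F, π ⁻¹ᵁ (U : Y.Opens)) :=
    IsScalarTower.of_algebraMap_smul fun _ _ => rfl
  exact rfp_iff_of_finite (R := Γ(S, (V : S.Opens))) (A := Γ(Y, (U : Y.Opens)))
    (B := Γ(X, π ⁻¹ᵁ (U : Y.Opens))) Γ(F, π ⁻¹ᵁ (U : Y.Opens))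

theorem isRelFP_push_iff {X Y S : Scheme.{u}} (π : X ⟶ Y) [IsFinite π] (g : Y ⟶ S)
    [LocallyOfFiniteType g] (F : X.Modules) [F.IsQuasicoherent] :
    Flatn.IsRelFP (π ≫ g) F ↔ Flatn.IsRelFP g ((Scheme.Modules.pushforward π).obj F) := by
  haveI := QCohLib.isQuasicoherent_pushforward (M := F) π
  refine ⟨fun hF => isRelFP_of_forall fun U V h => ?_, fun hF => isRelFP_of_local fun x => ?_⟩
  · exact (relFPOn_push_iff π g F U V h (U.2.preimage π)).2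
      (relFPOn_of_isRelFP hF _ _ _)
  · obtain ⟨V, hV, hxV, -⟩ := exists_isAffineOpen_mem_and_subset (x := g (π x)) (U := ⊤) trivial
    obtain ⟨U, hU, hxU, hUV⟩ := exists_isAffineOpen_mem_and_subset (x := π x) (U := g ⁻¹ᵁ V) hxV
    exact ⟨⟨π ⁻¹ᵁ U, hU.preimage π⟩, ⟨V, hV⟩, _, hxU,
      (relFPOn_push_iff π g F ⟨U, hU⟩ ⟨V, hV⟩ hUV (hU.preimage π)).1
        (relFPOn_of_isRelFP hF _ _ _)⟩

end Groth.Agent.RelFPLib
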